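import Groth.Agent.ExtZ.Vanish
import Groth.Agent.GrothSS.HomSupp
import Groth.Agent.ModSiteTensor.Basic
import Groth.Agent.LCZ.Scheme
import Groth.Agent.QC.Coherent

/-!
Coherence of local Ext with supports.
-/

set_option autoImplicit false
set_option linter.style.haveILetI false
set_option linter.unusedSectionVars false
set_option backward.isDefEq.respectTransparency false
set_option backward.isDefEq.respectTransparency.types false
set_option maxHeartbeats 1000000

universe u

open CategoryTheory CategoryTheory.Limits AlgebraicGeometry TopologicalSpace Opposite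

noncomputable section

namespace Groth.Agent.ExtZ

instance hasSheafHomSch {X : Scheme.{u}} (M : X.Modules) : ModSite.HasSheafHom (O := X.sheaf) M :=
  ModSiteTensor.hasSheafHom M

variable {X : Scheme.{u}} (U : X.Opens) [HasInjectiveResolutions (ModSite.Mod X.sheaf)]

/-- The two internal homs. -/
def sheafHomIso (F : X.Modules) [ModSite.HasSheafHom (O := X.sheaf) F] :
    @Iso (X.Modules ⥤ X.Modules) _ (ModSite.sheafHom (O := X.sheaf) F) (DCoh.sheafHom F) :=
  (ModSite.sheafHomAdj (O := X.sheaf) F).rightAdjointUniq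
    ((DCoh.sheafHomAdj F).ofNatIsoLeft (W7Flasque.tensorIso F).symm)

/-- The complex computing `ℰxt_Z`. -/
abbrev suppCx (F G : X.Modules) : CochainComplex X.Modules ℕ :=
  haveI : (show X.Modules ⥤ X.Modules from ModSite.sectOn X.sheaf U).Additive := ModSite.sectOn_additive X.sheaf U
  ((show X.Modules ⥤ X.Modules from ModSite.sectOn X.sheaf U).mapHomologicalComplex (ComplexShape.up ℕ)).obj
    (((DCoh.sheafHom F).mapHomologicalComplex (ComplexShape.up ℕ)).obj (injectiveResolution G).cocomplex)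

theorem nonempty_suppCx_iso (F : X.Modules) [ModSite.HasSheafHom (O := X.sheaf) F] (G : X.Modules) (i : ℕ) :
    Nonempty ((ModSite.extZSh (O := X.sheaf) U F i).obj G ≅ (suppCx U F G).homology i) := by
  let S : X.Modules ⥤ X.Modules := ModSite.sectOn X.sheaf U
  haveI : S.Additive := ModSite.sectOn_additive X.sheaf U
  haveI : @Functor.Additive X.Modules X.Modules _ _ _ _ (ModSite.sheafHom (O := X.sheaf) F) :=
    ModSite.sheafHom_additive (O := X.sheaf) F
  haveI := ExtShX.additive_sheafHom F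
  haveI : (DCoh.sheafHom F ⋙ S).Additive := ⟨fun {A B f g} => by simp only [Functor.comp_map, Functor.map_add]⟩
  exact ⟨(GrothSS.rightDerivedMapIso (C := X.Modules) (D := X.Modules)
    (Functor.isoWhiskerRight (sheafHomIso F) S) i).app G ≪≫
      (injectiveResolution G).isoRightDerivedObj (DCoh.sheafHom F ⋙ S) i⟩

lemma isTotallyAcyclic_congr {F G : Sheaf (Opens.grothendieckTopology X) AddCommGrpCat.{u}} (e : F ≅ G)
    (hF : CohCx.IsTotallyAcyclic F) : CohCx.IsTotallyAcyclic G := fun K p =>
  subsingleton_of_forall_eq 0 fun x => by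
    have h1 : (x.comp (Abelian.Ext.mk₀ e.inv) (add_zero (p + 1))).comp (Abelian.Ext.mk₀ e.hom) (add_zero (p + 1)) = x := by
      rw [Abelian.Ext.comp_assoc_of_second_deg_zero, Abelian.Ext.mk₀_comp_mk₀, e.inv_hom_id, Abelian.Ext.comp_mk₀_id]
    rw [← h1, @Subsingleton.elim _ (hF K p) (x.comp (Abelian.Ext.mk₀ e.inv) (add_zero (p + 1))) 0, Abelian.Ext.zero_comp]

/-- The long exact sequence in the first variable, at the middle term. -/
theorem exists_exact_mid {S : ShortComplex X.Modules} (hS : S.ShortExact) (G : X.Modules) (i : ℕ) :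
    ∃ (f : (suppCx U S.X₃ G).homology i ⟶ (suppCx U S.X₂ G).homology i)
      (g : (suppCx U S.X₂ G).homology i ⟶ (suppCx U S.X₁ G).homology i)
      (δ : (suppCx U S.X₁ G).homology i ⟶ (suppCx U S.X₃ G).homology (i + 1))
      (w : f ≫ g = 0) (w' : g ≫ δ = 0), (ShortComplex.mk f g w).Exact ∧ (ShortComplex.mk g δ w').Exact := by
  let T : X.Modules ⥤ X.Modules := ModSite.sectOn X.sheaf U
  haveI : T.Additive := ModSite.sectOn_additive X.sheaf U
  haveI : PreservesFiniteLimits T := GrothSS.preservesFiniteLimits_sectOn X.sheaf U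
  let C := (ExtShX.preCx (S := S) (injectiveResolution G).cocomplex).map (T.mapHomologicalComplex (ComplexShape.up ℕ))
  have hC : C.ShortExact := HomologicalComplex.shortExact_of_degreewise_shortExact _ fun n => by
    let J := (injectiveResolution G).cocomplex.X n
    haveI : Injective J := (injectiveResolution G).injective n
    have h := ExtShX.shortExact_pre hS J
    haveI := h.mono_f
    haveI : Epi (T.map ((ExtShX.pre S.f).app J)) :=
      GrothSS.epi_sectOn_map (O := X.sheaf) U (S := ShortComplex.mk _ _ (ExtShX.pre_comp_zero (S := S) J)) h (by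
        have := ModSiteHom.isTotallyAcyclic_sheafHom_injective (O := X.sheaf) S.X₃ J
        exact isTotallyAcyclic_congr ((SheafOfModules.toSheaf _).mapIso ((sheafHomIso S.X₃).app J)) this)
    exact
      { exact := ShortComplex.exact_of_f_is_kernel _ (KernelFork.mapIsLimit _ h.fIsKernel T)
        mono_f := inferInstanceAs (Mono (T.map ((ExtShX.pre S.g).app J)))
        epi_g := inferInstanceAs (Epi (T.map ((ExtShX.pre S.f).app J))) }
  exact ⟨_, _, _, _, _, hC.homology_exact₂ i, hC.homology_exact₃ i (i + 1) rfl⟩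

/-- Off the trace of the support on `U`, sections are supported outside `U`. -/
theorem exists_supp_seq [IsLocallyNoetherian X] (F : X.Modules) (hF : Coh.IsCoh F) :
    ∃ S : ShortComplex X.Modules, S.ShortExact ∧ S.X₂ = F ∧ Coh.IsCoh S.X₁ ∧ Coh.IsCoh S.X₃ ∧
      (∀ x ∈ CohB1.support S.X₁, x ∉ (U : Set X)) ∧
      CohB1.support S.X₃ ⊆ closure (CohB1.support F ∩ (U : Set X)) := by
  let ι : (ModSite.sectOn X.sheaf U).obj F ⟶ F := (ModSite.sectOnι X.sheaf U).app F
  haveI : Mono ι := inferInstanceAs (Mono (kernel.ι _))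
  let S : ShortComplex X.Modules := ShortComplex.mk ι (cokernel.π ι) (cokernel.condition ι)
  have hS : S.ShortExact := { exact := ShortComplex.exact_cokernel _ }
  have h0 : Coh.IsQCoh S.X₁ := by
    haveI : (show X.Modules ⥤ X.Modules from ModSite.sectOn X.sheaf U).Additive := ModSite.sectOn_additive X.sheaf U
    haveI : PreservesFiniteLimits (show X.Modules ⥤ X.Modules from ModSite.sectOn X.sheaf U) :=
      GrothSS.preservesFiniteLimits_sectOn X.sheaf U
    exact QC.isQCoh_of_iso (((show X.Modules ⥤ X.Modules from ModSite.sectOn X.sheaf U)).rightDerivedZeroIsoSelf.app F)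
      (isQCoh_HZsh U 0 hF.1)
  have h1 : Coh.IsCoh S.X₁ := QC.isCoh_of_mono ι hF h0
  refine ⟨S, hS, rfl, h1, QC.isCoh_cokernel h1.1 hF ι, fun x hx hxU => hx ?_, fun x hx => ?_⟩
  · refine subsingleton_of_forall_eq 0 fun t => ?_
    obtain ⟨V, hxV, s, rfl⟩ := TopCat.Presheaf.germ_exist S.X₁.presheaf t
    let W : X.Opens := V ⊓ U
    have hle : W ≤ V := inf_le_left
    rw [← TopCat.Presheaf.germ_res_apply S.X₁.presheaf (homOfLE hle) x ⟨hxV, hxU⟩ s]
    haveI : Mono ι.val := (SheafOfModules.forget _).map_mono _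
    have h := app_eq_zero_of_restr U ι (by
      have := GrothSS.restr_comp_ι (O := X.sheaf) (U := U) (𝟙 ((ModSite.sectOn X.sheaf U).obj F))
      rwa [Category.id_comp] at this) W inf_le_right
    have hz : S.X₁.presheaf.map (homOfLE hle).op s = 0 := by
      refine QC.app_injective_of_mono ι W ?_
      exact (ConcreteCategory.congr_hom h _).trans (map_zero _).symm
    exact (congrArg _ hz).trans (map_zero _)
  · by_contra hxS
    refine hx (subsingleton_of_forall_eq 0 fun t => ?_)
    haveI : Epi (cokernel.π ι) := inferInstance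
    have hsurj : Function.Surjective ((DerSch.stalkFunctor X x).map (cokernel.π ι)) :=
      (ModuleCat.epi_iff_surjective _).1 inferInstance
    obtain ⟨t', rfl⟩ := hsurj t
    obtain ⟨V, hxV, s, rfl⟩ := TopCat.Presheaf.germ_exist F.presheaf t'
    let W : X.Opens := V ⊓ ⟨(closure (CohB1.support F ∩ (U : Set X)))ᶜ, isClosed_closure.isOpen_compl⟩
    obtain ⟨m, hm⟩ := (GrothSS.mem_range_sectOnι_iff X.sheaf U F W (QC.res F inf_le_left s)).2 fun T a b => by
      refine TopCat.Presheaf.section_ext ⟨F.presheaf, F.isSheaf⟩ T _ _ fun y hy => ?_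
      have hy1 : y ∉ closure (CohB1.support F ∩ (U : Set X)) := (leOfHom a hy).2
      have hys : y ∉ CohB1.support F := fun h => hy1 (subset_closure ⟨h, leOfHom b hy⟩)
      haveI : Subsingleton (F.presheaf.stalk y) := not_not.1 hys
      exact Subsingleton.elim _ _
    show (DerSch.stalkFunctor X x).map (cokernel.π ι) (F.presheaf.germ V x hxV s) = 0
    have hxW : x ∈ W := ⟨hxV, hxS⟩
    rw [← QC.germ_res F (inf_le_left : W ≤ V) x hxW s, ← hm]
    refine ((TopCat.Presheaf.stalkFunctor_map_germ_apply W x hxW ((Scheme.Modules.toPresheaf X).map (cokernel.π ι))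
      _)).trans ?_
    have := ConcreteCategory.congr_hom (congrArg (fun φ : S.X₁ ⟶ S.X₃ => φ.app W) (cokernel.condition ι)) m
    exact (congrArg _ this).trans (map_zero _)

/-- Supports inside a smaller closed set. -/
theorem nonempty_extZSh_congr {U' : X.Opens} (hUU : U ≤ U') (F : X.Modules)
    (hF : ∀ x ∈ CohB1.support F, x ∈ (U' : Set X) → x ∈ (U : Set X)) (G : X.Modules) (i : ℕ) :
    Nonempty ((ModSite.extZSh (O := X.sheaf) U F i).obj G ≅ (ModSite.extZSh (O := X.sheaf) U' F i).obj G) := by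
  let P : ModSite.Mod X.sheaf := F
  let π := (ModSite.quotOnπ X.sheaf U).app P
  let π' := (ModSite.quotOnπ X.sheaf U').app P
  have h' : (ModSite.restr X.sheaf U).map π' = 0 := by
    refine restr_map_eq_zero U (A := F) (B := (ModSite.quotOn X.sheaf U').obj P) π' fun V hV => ?_
    exact app_eq_zero_of_restr U' π' GrothSS.restr_quotπ V (hV.trans hUU)
  have h : (ModSite.restr X.sheaf U').map π = 0 := by
    refine restr_map_eq_zero U' (A := F) (B := (ModSite.quotOn X.sheaf U).obj P) π fun V hV => ?_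
    ext s
    refine QC.section_eq_of_locally fun x hx => ?_
    by_cases hxs : x ∈ CohB1.support F
    · refine ⟨V ⊓ U, inf_le_left, ⟨hx, hF x hxs (hV hx)⟩, ?_⟩
      refine (QC.app_res (M := F) (N := (ModSite.quotOn X.sheaf U).obj P) π inf_le_left s).trans ?_
      exact (ConcreteCategory.congr_hom (app_eq_zero_of_restr U π GrothSS.restr_quotπ _ inf_le_right) _).trans
        (map_zero _).symm
    · haveI : Subsingleton (F.presheaf.stalk x) := not_not.1 hxs
      obtain ⟨W, hxW, iU, iV, he⟩ := TopCat.Presheaf.germ_eq F.presheaf x hx hx s 0 (Subsingleton.elim _ _)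
      have he' : QC.res F iU.le s = 0 := he.trans (map_zero _)
      refine ⟨W, iU.le, hxW, ?_⟩
      refine (QC.app_res (M := F) (N := (ModSite.quotOn X.sheaf U).obj P) π iU.le s).trans ?_
      rw [he', map_zero]
      exact (map_zero _).symm
  let e : (ModSite.quotOn X.sheaf U).obj P ≅ (ModSite.quotOn X.sheaf U').obj P :=
    { hom := GrothSS.quotDesc π' h'
      inv := GrothSS.quotDesc π h
      hom_inv_id := by
        rw [← cancel_epi π, ← Category.assoc, GrothSS.π_quotDesc, GrothSS.π_quotDesc, Category.comp_id]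
      inv_hom_id := by
        rw [← cancel_epi π', ← Category.assoc, GrothSS.π_quotDesc, GrothSS.π_quotDesc, Category.comp_id] }
  obtain ⟨a⟩ := GrothSS.nonempty_sectHomQuotIso (O := X.sheaf) U P
  obtain ⟨a'⟩ := GrothSS.nonempty_sectHomQuotIso (O := X.sheaf) U' P
  let b := (ModSite.sheafHomAdj ((ModSite.quotOn X.sheaf U).obj P)).rightAdjointUniq
    ((ModSite.sheafHomAdj ((ModSite.quotOn X.sheaf U').obj P)).ofNatIsoLeft
      ((ModSite.tensorBi X.sheaf).flip.mapIso e).symm)
  exact ⟨(GrothSS.rightDerivedMapIso (a ≪≫ b ≪≫ a'.symm) i).app G⟩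

variable [IsLocallyNoetherian X]

/-- Local cohomology below the depth. -/
theorem isZero_HZsh_below (M : X.Modules) (hM : Coh.IsCoh M) (n : ℕ)
    (h : ∀ x : X, x ∉ (U : Set X) → (n : ℕ∞) ≤ LocCoh.depth (X.presheaf.stalk x) (M.presheaf.stalk x))
    (p : ℕ) (hp : p < n) : IsZero ((ModSite.HZsh X.sheaf U p).obj M) := by
  haveI : HasInjectiveResolutions X.Modules := ‹HasInjectiveResolutions (ModSite.Mod X.sheaf)›
  haveI : (show X.Modules ⥤ X.Modules from ModSite.sectOn X.sheaf U).Additive := ModSite.sectOn_additive X.sheaf U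
  let T := SheafOfModules.toSheaf X.ringCatSheaf
  haveI : PreservesFiniteColimits T := CohQC.toSheaf_preservesFiniteColimits X.ringCatSheaf
  haveI : T.PreservesHomology := Functor.preservesHomologyOfExact T
  haveI := LCZQC.preservesFiniteLimits_sectSuppF (X := X.carrier) U
  refine IsZero.of_iso ?_ ((GrothSS.rightDerivedMapIso (gammaNatIso U) p).app M).symm
  refine CohQC.isZero_of_isZero_toAb ?_
  obtain ⟨e⟩ := GrothSS.nonempty_rightDerived_comp_acyclic T (LocCohZ.sectSuppF (X := X.carrier) U)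
    (fun I hI q hq => by
      haveI := hI
      haveI : TopCat.Sheaf.IsFlasque (T.obj I) := RPushQC.isFlasque_toAb (RPushQC.isFlasque_of_injective I)
      exact LCZ.isZero_HZsh_of_isFlasque (X := X.carrier) (F := T.obj I) U hq) p M
  refine IsZero.of_iso ?_ (((ExtShX.postCompIso (DCoh.gammaZ U.ι) T p).app M).symm ≪≫
    (GrothSS.rightDerivedMapIso (LCZQC.gammaToAbIso U.ι U U.opensRange_ι) p).app M ≪≫ e)
  refine LCZ.isZero_HZsh_of_subsingleton (X := X.carrier) U fun V x hx => ?_
  obtain ⟨_, ⟨W : X.Opens, hW : IsAffineOpen W, rfl⟩, hxW, hWV⟩ :=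
    X.isBasis_affineOpens.exists_subset_of_mem_open (show x ∈ (V : Set X) from hx) V.isOpen
  exact ⟨W, hxW, hWV, (LCZ.forall_subsingleton_HZ_iff M hM hW U n).2 (fun y _ hy => h y hy) p hp⟩

theorem isZero_extZSh_of_depth (F : X.Modules) (G : X.Modules) (hG : Coh.IsCoh G) (n : ℕ)
    (h : ∀ x : X, x ∉ (U : Set X) → (n : ℕ∞) ≤ LocCoh.depth (X.presheaf.stalk x) (G.presheaf.stalk x))
    (i : ℕ) (hi : i < n) : IsZero ((ModSite.extZSh (O := X.sheaf) U F i).obj G) := by
  let A := ModSite.Mod X.sheaf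
  let H := ModSite.sheafHom (O := X.sheaf) (show ModSite.Mod X.sheaf from F)
  let S := ModSite.sectOn X.sheaf U
  haveI : PreservesLimitsOfSize.{0, 0} H := (ModSite.sheafHomAdj (O := X.sheaf) _).rightAdjoint_preservesLimits
  let R := injectiveResolution (C := A) G
  let L := (S.mapHomologicalComplex (ComplexShape.up ℤ)).obj R.cochainComplex
  haveI : CochainComplex.IsStrictlyGE L 0 :=
    inferInstanceAs (CochainComplex.IsStrictlyGE ((S.mapHomologicalComplex (ComplexShape.up ℤ)).obj R.cochainComplex) 0)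
  haveI : ∀ m, Injective (L.X m) := fun m =>
    haveI : Injective (R.cochainComplex.X m) := inferInstance
    GrothSS.injective_sectOn X.sheaf U _
  obtain ⟨e⟩ := GrothSS.nonempty_homology_map_resolution (S ⋙ H) R i
  refine IsZero.of_iso ?_ ((GrothSS.rightDerivedMapIso (GrothSS.sectHomIso (O := X.sheaf) U F) i).app G ≪≫ e.symm)
  refine HomODer.isZero_homology_map H L 0 i fun m q hmq => ?_
  refine (H.rightDerived q).map_isZero ?_
  rcases lt_or_ge m 0 with hm | hm
  · exact ShortComplex.isZero_homology_of_isZero_X₂ _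
      (S.map_isZero (CochainComplex.isZero_of_isStrictlyGE R.cochainComplex 0 m hm))
  lift m to ℕ using hm
  obtain ⟨w⟩ := GrothSS.nonempty_homology_map_resolution S R m
  refine IsZero.of_iso ?_ w
  exact isZero_HZsh_below U G hG n h m (by omega)

theorem isCoh_extZSh_of_vanish (F : X.Modules) [ModSite.HasSheafHom (O := X.sheaf) F] (hF : Coh.IsCoh F)
    (G : X.Modules) (hG : Coh.IsCoh G) (i : ℕ)
    (h : ∀ F'' : X.Modules, Coh.IsCoh F'' → CohB1.support F'' ⊆ closure (CohB1.support F ∩ (U : Set X)) →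
      IsZero ((ModSite.extZSh (O := X.sheaf) U F'' i).obj G)) :
    Coh.IsCoh ((ModSite.extZSh (O := X.sheaf) U F i).obj G) := by
  obtain ⟨S, hS, h2, h1, h3, hs1, hs3⟩ := exists_supp_seq U F hF
  subst h2
  obtain ⟨f, g, δ, w, w', ex, ex'⟩ := exists_exact_mid U hS G i
  obtain ⟨a₁⟩ := nonempty_suppCx_iso U S.X₁ G i
  obtain ⟨a₂⟩ := nonempty_suppCx_iso U S.X₂ G i
  obtain ⟨a₃⟩ := nonempty_suppCx_iso U S.X₃ G i
  obtain ⟨a₄⟩ := nonempty_suppCx_iso U S.X₃ G (i + 1)
  obtain ⟨b⟩ := nonempty_extZShIso U S.X₁ hs1 i G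
  haveI : Mono g := ex.mono_g (((h _ h3 hs3).of_iso a₃.symm).eq_of_src _ _)
  have hB : Coh.IsCoh ((suppCx U S.X₁ G).homology i) :=
    CohFinite.isCoh_of_iso (b.symm ≪≫ a₁) (ExtShX.isCoh_R_loc S.X₁ G h1 hG i)
  exact CohFinite.isCoh_of_iso a₂.symm
    (QC.isCoh_of_mono g hB (QC.isQCoh_of_iso a₂ (isQCoh_extZSh U S.X₂ hF hG.1 i)))

end Groth.Agent.ExtZ
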