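import Groth.Agent.ExtZ.Supp
import Groth.Agent.GrothSS.LocAcyclic
import Groth.Agent.ModSiteHom.Acyclic
import Groth.Agent.HomODer.Main
import Groth.Agent.LCZQC.Main
import Groth.Agent.DerPlus.LongExact

/-!
Local Ext with supports of a coherent module into a quasi-coherent one is quasi-coherent.
-/

set_option autoImplicit false
set_option linter.style.haveILetI false
set_option backward.isDefEq.respectTransparency false
set_option backward.isDefEq.respectTransparency.types false
set_option maxHeartbeats 1000000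

universe u

open CategoryTheory CategoryTheory.Limits AlgebraicGeometry TopologicalSpace Opposite

noncomputable section

namespace Groth.Agent.ExtZ

variable {X : Scheme.{u}} (U : X.Opens)

lemma restr_map_eq_zero {A B : X.Modules} (φ : A ⟶ B) (h : ∀ V : X.Opens, V ≤ U → φ.app V = 0) :
    (ModSite.restr X.sheaf U).map φ = 0 := by
  apply SheafOfModules.hom_ext
  apply PresheafOfModules.hom_ext
  intro W
  apply ModuleCat.hom_ext
  apply LinearMap.ext
  intro s
  exact ConcreteCategory.congr_hom (h W.unop.left (leOfHom W.unop.hom)) s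

lemma app_eq_zero_of_restr {A B : X.Modules} (φ : A ⟶ B) (h : (ModSite.restr X.sheaf U).map φ = 0)
    (V : X.Opens) (hV : V ≤ U) : φ.app V = 0 := by
  ext s
  exact congrArg (fun f => f.val.app (op (Over.mk (homOfLE hV))) s) h

lemma app_eq_zero_of_restrict {A B : X.Modules} (φ : A ⟶ B)
    (h : (Scheme.Modules.restrictFunctor U.ι).map φ = 0) (V : X.Opens) (hV : V ≤ U) : φ.app V = 0 := by
  have e : U.ι ''ᵁ (U.ι ⁻¹ᵁ V) = V := by
    rw [Scheme.Hom.image_preimage_eq_opensRange_inf, Scheme.Opens.opensRange_ι, inf_eq_right.2 hV]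
  have : φ.app (U.ι ''ᵁ (U.ι ⁻¹ᵁ V)) = 0 := by
    ext s
    exact (QC.restrict_map_app U.ι φ _ s).symm.trans (congrArg (fun f => f.app _ s) h)
  rwa [e] at this

lemma restrict_map_eq_zero {A B : X.Modules} (φ : A ⟶ B) (h : ∀ V : X.Opens, V ≤ U → φ.app V = 0) :
    (Scheme.Modules.restrictFunctor U.ι).map φ = 0 := by
  ext V s
  exact (QC.restrict_map_app U.ι φ V s).trans
    (ConcreteCategory.congr_hom (h _ (U.ι.image_le_opensRange V |>.trans_eq U.opensRange_ι)) s)

/-- The kernel of restriction to the open, through either adjunction. -/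
def gammaIso (M : X.Modules) : (DCoh.gammaZ U.ι).obj M ≅ (ModSite.sectOn X.sheaf U).obj M where
  hom := GrothSS.sectLift (O := X.sheaf) (U := U) (X := (DCoh.gammaZ U.ι).obj M) (Y := M)
    (kernel.ι ((Scheme.Modules.restrictAdjunction U.ι).unit.app M)) (restr_map_eq_zero U _ (app_eq_zero_of_restrict U _ (by
      apply ((Scheme.Modules.restrictAdjunction U.ι).homEquiv _ _).injective
      rw [Adjunction.homEquiv_unit, Adjunction.homEquiv_unit, Functor.map_zero, comp_zero]
      exact ((Scheme.Modules.restrictAdjunction U.ι).unit.naturality _).symm.trans (kernel.condition _))))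
  inv := kernel.lift _ ((ModSite.sectOnι X.sheaf U).app M) (by
    apply ((Scheme.Modules.restrictAdjunction U.ι).homEquiv _ _).symm.injective
    rw [Adjunction.homEquiv_counit, Adjunction.homEquiv_counit, Functor.map_zero, zero_comp, Functor.map_comp,
      Category.assoc]
    rw [restrict_map_eq_zero U _ (app_eq_zero_of_restr U _ (by
      simpa only [Category.id_comp] using GrothSS.restr_comp_ι (𝟙 ((ModSite.sectOn X.sheaf U).obj M))))]
    exact zero_comp)
  hom_inv_id := by
    rw [← cancel_mono (kernel.ι ((Scheme.Modules.restrictAdjunction U.ι).unit.app M))]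
    exact (Category.assoc _ _ _).trans ((congrArg (_ ≫ ·) (kernel.lift_ι _ _ _)).trans
      ((GrothSS.sectLift_ι (O := X.sheaf) _ _).trans (Category.id_comp _).symm))
  inv_hom_id := by
    rw [← cancel_mono ((ModSite.sectOnι X.sheaf U).app M)]
    exact (Category.assoc _ _ _).trans ((congrArg (_ ≫ ·) (GrothSS.sectLift_ι (O := X.sheaf) _ _)).trans
      ((kernel.lift_ι _ _ _).trans (Category.id_comp _).symm))

lemma gammaIso_hom_ι (M : X.Modules) :
    (gammaIso U M).hom ≫ (ModSite.sectOnι X.sheaf U).app M =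
      kernel.ι ((Scheme.Modules.restrictAdjunction U.ι).unit.app M) :=
  GrothSS.sectLift_ι (O := X.sheaf) _ (restr_map_eq_zero U _ (app_eq_zero_of_restrict U _ (by
      apply ((Scheme.Modules.restrictAdjunction U.ι).homEquiv _ _).injective
      rw [Adjunction.homEquiv_unit, Adjunction.homEquiv_unit, Functor.map_zero, comp_zero]
      exact ((Scheme.Modules.restrictAdjunction U.ι).unit.naturality _).symm.trans (kernel.condition _))))

def gammaNatIso : DCoh.gammaZ U.ι ≅ ModSite.sectOn X.sheaf U :=
  NatIso.ofComponents (gammaIso U) fun {M N} g => by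
    rw [← cancel_mono ((ModSite.sectOnι X.sheaf U).app N)]
    refine (Category.assoc _ _ _).trans ?_
    refine (congrArg (_ ≫ ·) (gammaIso_hom_ι U N)).trans ?_
    refine Eq.trans ?_ (Category.assoc _ _ _).symm
    refine Eq.trans ?_ (congrArg (_ ≫ ·) ((ModSite.sectOnι X.sheaf U).naturality g).symm)
    refine Eq.trans ?_ (Category.assoc _ _ _)
    refine Eq.trans ?_ (congrArg (· ≫ g) (gammaIso_hom_ι U M).symm)
    exact kernel.lift_ι _ _ _

variable [IsLocallyNoetherian X] [HasInjectiveResolutions (ModSite.Mod X.sheaf)]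

theorem isQCoh_HZsh (q : ℕ) {M : X.Modules} (hM : Coh.IsQCoh M) :
    Coh.IsQCoh ((ModSite.HZsh X.sheaf U q).obj M) := by
  haveI : HasInjectiveResolutions X.Modules := ‹HasInjectiveResolutions (ModSite.Mod X.sheaf)›
  haveI : (show X.Modules ⥤ X.Modules from ModSite.sectOn X.sheaf U).Additive := ModSite.sectOn_additive X.sheaf U
  exact QC.isQCoh_of_iso ((GrothSS.rightDerivedMapIso (gammaNatIso U) q).app M)
    (LCZQC.isQCoh_HZshM U.ι M hM q)

variable (F : X.Modules) [ModSite.HasSheafHom (O := X.sheaf) F]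

theorem isQCoh_extZSh (hF : Coh.IsCoh F) {G : X.Modules} (hG : Coh.IsQCoh G) (i : ℕ) :
    Coh.IsQCoh ((ModSite.extZSh (O := X.sheaf) U F i).obj G) := by
  letI := HasDerivedCategory.standard (ModSite.Mod X.sheaf)
  let A := ModSite.Mod X.sheaf
  let H := ModSite.sheafHom (O := X.sheaf) F
  let S := ModSite.sectOn X.sheaf U
  haveI : EnoughInjectives A := ⟨fun Y => ⟨_, (injectiveResolution Y).injective 0,
    (injectiveResolution Y).ι.f 0, inferInstance⟩⟩
  let R := injectiveResolution (C := A) G
  let K := (H.mapHomologicalComplex (ComplexShape.up ℤ)).obj R.cochainComplex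
  haveI : CochainComplex.IsStrictlyGE K 0 :=
    inferInstanceAs (CochainComplex.IsStrictlyGE ((H.mapHomologicalComplex (ComplexShape.up ℤ)).obj R.cochainComplex) 0)
  have hK : ∀ m, Coh.IsQCoh (K.homology m) := by
    intro m
    rcases lt_or_ge m 0 with hm | hm
    · exact DQCoh.isQCoh_of_isZero
        (ShortComplex.isZero_homology_of_isZero_X₂ _ (CochainComplex.isZero_of_isStrictlyGE K 0 m hm))
    · lift m to ℕ using hm
      obtain ⟨e⟩ := GrothSS.nonempty_homology_map_resolution H R m
      obtain ⟨w⟩ := ExtShX.nonempty_extShIso F m G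
      exact QC.isQCoh_of_iso (e ≪≫ w).symm (HomODer.isQCoh_R_loc F G hF hG m)
  obtain ⟨L, j, hj, hL, hge⟩ := CochainComplex.Plus.modelCategoryQuillen.exists_quasiIso_injective K 0
  haveI := hge
  haveI := hL
  haveI hq' := GrothSS.quasiIso_map_of_acyclic S j 0 (fun m q hq => by
    obtain ⟨q, rfl⟩ : ∃ r, q = r + 1 := ⟨q - 1, by omega⟩
    haveI : Injective (R.cochainComplex.X m) := inferInstance
    exact GrothSS.isZero_HZsh_of_totallyAcyclic X.sheaf U q _
      (ModSiteHom.isTotallyAcyclic_sheafHom_injective F (R.cochainComplex.X m))) hL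
  obtain ⟨e⟩ := GrothSS.nonempty_homology_map_resolution (H ⋙ S) R i
  haveI : ∀ n, QuasiIsoAt j n := fun n => hj.quasiIsoAt n
  haveI : QuasiIsoAt ((S.mapHomologicalComplex (ComplexShape.up ℤ)).map j) (i : ℤ) := hq'.quasiIsoAt _
  refine QC.isQCoh_of_iso ((isoOfQuasiIsoAt ((S.mapHomologicalComplex (ComplexShape.up ℤ)).map j) (i : ℤ)).symm ≪≫ e) ?_
  refine HomODer.prop_homology_map S L (fun M : X.Modules => Coh.IsQCoh M) (HomODer.five_qcoh X) 0
    (fun n q => isQCoh_HZsh U q (QC.isQCoh_of_iso (isoOfQuasiIsoAt j n) (hK n))) i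

end Groth.Agent.ExtZ
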