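import Groth.Agent.ExtZ.Coh
import Groth.Agent.SGA2Fin.Basic
import Groth.Agent.Goren.Ring
import Groth.Agent.Unibranch.FibreChains
import Groth.Agent.ExtShX.CodimField
import Groth.Agent.HomColim.LocalIso

/-!
Supports splitting into a part of small and a part of large dimension.
-/

set_option autoImplicit false
set_option linter.style.haveILetI false
set_option linter.unusedSectionVars false
set_option backward.isDefEq.respectTransparency false
set_option backward.isDefEq.respectTransparency.types false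
set_option maxHeartbeats 1000000

universe u

open CategoryTheory CategoryTheory.Limits AlgebraicGeometry TopologicalSpace Opposite

noncomputable section

namespace Groth.Agent.ExtZ

section Space

variable {X : Scheme.{u}} [IsLocallyNoetherian X] (hreg : ∀ x : X, IsRegularLocalRing (X.presheaf.stalk x))

lemma height_primeIdealOf {V : X.Opens} (hV : IsAffineOpen V) {x : X} (hx : x ∈ V) :
    ((hV.primeIdealOf ⟨x, hx⟩).asIdeal.height : WithBot ℕ∞) = ringKrullDim (X.presheaf.stalk x) := by
  letI := TopCat.Presheaf.algebra_section_stalk X.presheaf (⟨x, hx⟩ : V)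
  haveI := hV.isLocalization_stalk ⟨x, hx⟩
  rw [IsLocalization.AtPrime.ringKrullDim_eq_height (hV.primeIdealOf ⟨x, hx⟩).asIdeal (X.presheaf.stalk x)]

include hreg in
/-- Along a closed set avoiding dimension `n`, generalisations stay above `n`. -/
theorem lt_dim_of_specializes {P : Set X} (hP : IsClosed P) (n : ℕ)
    (hn : ∀ x ∈ P, ringKrullDim (X.presheaf.stalk x) ≠ (n : WithBot ℕ∞)) :
    ∀ (k : ℕ) (x y : X), ringKrullDim (X.presheaf.stalk x) = (k : WithBot ℕ∞) → y ∈ P → y ⤳ x → n < k →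
      (n : WithBot ℕ∞) < ringKrullDim (X.presheaf.stalk y) := by
  intro k
  induction k using Nat.strong_induction_on with
  | _ k ih =>
    intro x y hk hy hyx hnk
    by_cases hxy : x ⤳ y
    · obtain rfl : y = x := (Specializes.antisymm hyx hxy).eq
      rw [hk]; exact_mod_cast hnk
    obtain ⟨V, hV, hxV, -⟩ := exists_isAffineOpen_mem_and_subset (X := X) (U := ⊤) (x := x) trivial
    have hyV : y ∈ V := hyx.mem_open V.2 hxV
    haveI : IsNoetherianRing Γ(X, V) := IsLocallyNoetherian.component_noetherian ⟨V, hV⟩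
    have hR : IsRegularRing Γ(X, V) := by
      refine { isRegularLocalRing_localization := fun P _ => ?_ }
      let p : PrimeSpectrum Γ(X, V) := ⟨P, inferInstance⟩
      have hp : hV.fromSpec p ∈ V := hV.range_fromSpec.subset ⟨p, rfl⟩
      letI := TopCat.Presheaf.algebra_section_stalk X.presheaf (⟨hV.fromSpec p, hp⟩ : V)
      haveI := hV.isLocalization_stalk' p hp
      haveI := hreg (hV.fromSpec p)
      exact IsRegularLocalRing.of_ringEquiv
        (IsLocalization.algEquiv P.primeCompl (X.presheaf.stalk (hV.fromSpec p)) (Localization.AtPrime P)).toRingEquiv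
    haveI := Goren.isGorensteinRing_of_regular Γ(X, V) hR
    let qx := hV.primeIdealOf ⟨x, hxV⟩
    let qy := hV.primeIdealOf ⟨y, hyV⟩
    let S : Set (Ideal Γ(X, V)) := {p | p.IsPrime ∧ qy.asIdeal ≤ p ∧ p < qx.asIdeal}
    have hS : S.Nonempty := ⟨qy.asIdeal, qy.2, le_rfl,
      lt_of_le_not_ge ((Unibranch.primeIdealOf_le_iff hV hyV hxV).2 hyx)
        fun h => hxy ((Unibranch.primeIdealOf_le_iff hV hxV hyV).1 h)⟩
    obtain ⟨p, ⟨hp, hpy, hpx⟩, hmax⟩ := wellFounded_gt.has_min S hS
    let pp : PrimeSpectrum Γ(X, V) := ⟨p, hp⟩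
    have hcov : pp ⋖ qx := ⟨hpx, fun c hc hc' => hmax c.asIdeal ⟨c.2, hpy.trans hc.le, hc'⟩ hc⟩
    have hh := SGA2Fin.height_eq_add_one_of_covBy hcov
    let z := hV.fromSpec pp
    have hzV : z ∈ V := hV.range_fromSpec.subset ⟨pp, rfl⟩
    have hz : hV.primeIdealOf ⟨z, hzV⟩ = pp := hV.fromSpec.isOpenEmbedding.injective (hV.fromSpec_primeIdealOf ⟨z, hzV⟩)
    have hyz : y ⤳ z := (Unibranch.primeIdealOf_le_iff hV hyV hzV).1 (by rw [hz]; exact hpy)
    have hxk : qx.asIdeal.height = (k : ℕ∞) := by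
      have e := (height_primeIdealOf hV hxV).trans hk
      exact_mod_cast e
    rw [hxk] at hh
    obtain ⟨m, hm⟩ : ∃ m : ℕ, pp.asIdeal.height = (m : ℕ∞) := by
      refine ⟨pp.asIdeal.height.toNat, (ENat.coe_toNat fun h => ?_).symm⟩
      rw [h, top_add] at hh
      exact ENat.coe_ne_top k hh
    rw [hm] at hh
    have hkm : k = m + 1 := by exact_mod_cast hh
    have hzd : ringKrullDim (X.presheaf.stalk z) = (m : WithBot ℕ∞) := by
      rw [← height_primeIdealOf hV hzV, hz, hm]; rfl
    have hzP : z ∈ P := hyz.mem_closed hP hy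
    have hne : m ≠ n := fun h => hn z hzP (by rw [hzd, h])
    exact ih m (by omega) z y hzd hy hyz (by omega)

include hreg in
/-- The two parts. -/
theorem exists_split {P : Set X} (hP : IsClosed P) (n : ℕ)
    (hn : ∀ x ∈ P, ringKrullDim (X.presheaf.stalk x) ≠ (n : WithBot ℕ∞)) :
    ∃ U₁ U₂ : X.Opens, U₁ ⊔ U₂ = ⊤ ∧ ((U₁ ⊓ U₂ : X.Opens) : Set X) = Pᶜ ∧
      (∀ x : X, x ∉ U₁ → (n : WithBot ℕ∞) < ringKrullDim (X.presheaf.stalk x)) ∧
      ∀ x : X, x ∉ U₂ → ringKrullDim (X.presheaf.stalk x) < (n : WithBot ℕ∞) := by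
  classical
  let big : X → Prop := fun x => (n : WithBot ℕ∞) < ringKrullDim (X.presheaf.stalk x)
  have hinv : ∀ x y : X, y ∈ P → y ⤳ x → (big y ↔ big x) := fun x y hy hyx => by
    have hfin : ∀ x : X, ∃ k : ℕ, ringKrullDim (X.presheaf.stalk x) = (k : WithBot ℕ∞) := fun x =>
      haveI := hreg x
      ⟨_, (IsRegularLocalRing.spanFinrank_maximalIdeal (R := X.presheaf.stalk x)).symm⟩
    refine ⟨fun h => lt_of_lt_of_le h ?_, fun h => ?_⟩
    · obtain ⟨V, hV, hxV, -⟩ := exists_isAffineOpen_mem_and_subset (X := X) (U := ⊤) (x := x) trivial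
      rw [← height_primeIdealOf hV hxV, ← height_primeIdealOf hV (hyx.mem_open V.2 hxV)]
      exact_mod_cast Ideal.height_mono ((Unibranch.primeIdealOf_le_iff hV (hyx.mem_open V.2 hxV) hxV).2 hyx)
    · obtain ⟨k, hk⟩ := hfin x
      exact lt_dim_of_specializes hreg hP n hn k x y hk hy hyx (by
        have h' : (n : WithBot ℕ∞) < (k : WithBot ℕ∞) := hk ▸ h
        exact_mod_cast h')
  have key : ∀ q : Prop, IsOpen {x : X | x ∈ P → (big x ↔ q)} := fun q => by
    rw [isOpen_iff_forall_mem_open]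
    intro x hx
    obtain ⟨V, hV, hxV, -⟩ := exists_isAffineOpen_mem_and_subset (X := X) (U := ⊤) (x := x) trivial
    haveI : IsNoetherianRing Γ(X, V) := IsLocallyNoetherian.component_noetherian ⟨V, hV⟩
    let Q : Set (PrimeSpectrum Γ(X, V)) := hV.fromSpec.base ⁻¹' P
    have hQ : IsClosed Q := hP.preimage hV.fromSpec.base.hom.continuous
    obtain ⟨I, hI⟩ := (PrimeSpectrum.isClosed_iff_zeroLocus_ideal Q).1 hQ
    let T : Set (PrimeSpectrum Γ(X, V)) := {p | p.asIdeal ∈ I.minimalPrimes ∧ ¬ (big (hV.fromSpec p) ↔ q)}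
    have hT : T.Finite := Set.Finite.subset
      ((Ideal.finite_minimalPrimes_of_isNoetherianRing _ I).preimage (fun a _ b _ h => PrimeSpectrum.ext h)) fun p hp => hp.1
    let C : Set (PrimeSpectrum Γ(X, V)) := ⋃ p ∈ T, closure {p}
    have hC : IsClosed C := hT.isClosed_biUnion fun p _ => isClosed_closure
    refine ⟨hV.fromSpec.base '' Cᶜ, ?_, hV.fromSpec.isOpenEmbedding.isOpenMap _ hC.isOpen_compl, ?_⟩
    · rintro _ ⟨r, hr, rfl⟩ hrP
      obtain ⟨p, hp, hpr⟩ := Ideal.exists_minimalPrimes_le (show I ≤ r.asIdeal from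
        (hI ▸ (show r ∈ Q from hrP) : r ∈ PrimeSpectrum.zeroLocus _))
      let pp : PrimeSpectrum Γ(X, V) := ⟨p, hp.1.1⟩
      have hppP : hV.fromSpec pp ∈ P := by
        show pp ∈ Q
        rw [hI]
        exact hp.1.2
      have hsp : pp ⤳ r := (PrimeSpectrum.le_iff_specializes _ _).1 hpr
      have hb : big (hV.fromSpec pp) ↔ q := by
        by_contra hb
        exact hr (Set.mem_biUnion (show pp ∈ T from ⟨hp, hb⟩) hsp.mem_closure)
      exact (hinv _ _ hppP (hsp.map hV.fromSpec.base.hom.continuous)).symm.trans hb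
    · refine ⟨hV.primeIdealOf ⟨x, hxV⟩, ?_, hV.fromSpec_primeIdealOf _⟩
      intro hxC
      simp only [C, Set.mem_iUnion] at hxC
      obtain ⟨p, hp, hpx⟩ := hxC
      have hppP : hV.fromSpec p ∈ P := by
        show p ∈ Q
        rw [hI]
        exact hp.1.1.2
      have hsp : hV.fromSpec p ⤳ x := by
        have := (specializes_iff_mem_closure.2 hpx).map hV.fromSpec.base.hom.continuous
        rwa [hV.fromSpec_primeIdealOf] at this
      exact hp.2 ((hinv _ _ hppP hsp).trans (hx (hsp.mem_closed hP hppP)))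
  refine ⟨⟨_, key False⟩, ⟨_, key True⟩, ?_, ?_, fun x hx => ?_, fun x hx => ?_⟩
  · refine eq_top_iff.2 fun x _ => ?_
    by_cases hb : big x
    · exact Or.inr fun _ => ⟨fun _ => trivial, fun _ => hb⟩
    · exact Or.inl fun _ => ⟨fun h => hb h, False.elim⟩
  · ext x
    refine ⟨fun h hx => (h.1 hx).1 ((h.2 hx).2 trivial), fun h => ⟨fun hx => absurd hx h, fun hx => absurd hx h⟩⟩
  · by_contra hb
    exact hx fun _ => ⟨fun h => hb h, False.elim⟩
  · have hxP : x ∈ P := by_contra fun h => hx fun h' => absurd h' h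
    exact lt_of_le_of_ne (not_lt.1 fun hb => hx fun _ => ⟨fun _ => trivial, fun _ => hb⟩) (hn x hxP)

end Space

variable {X : Scheme.{u}} [HasInjectiveResolutions (ModSite.Mod X.sheaf)]

/-- Supports in a disjoint union. -/
theorem isZero_suppCx_of_split (U U₁ U₂ : X.Opens) (h₁ : U ≤ U₁) (h₂ : U ≤ U₂) (h : U₁ ⊓ U₂ ≤ U)
    (htop : U₁ ⊔ U₂ = ⊤) (F G : X.Modules) (i : ℕ) (z₁ : IsZero ((suppCx U₁ F G).homology i))
    (z₂ : IsZero ((suppCx U₂ F G).homology i)) : IsZero ((suppCx U F G).homology i) := by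
  let S : X.Modules ⥤ X.Modules := ModSite.sectOn X.sheaf U
  haveI : S.Additive := ModSite.sectOn_additive X.sheaf U
  let S₁ : X.Modules ⥤ X.Modules := ModSite.sectOn X.sheaf U₁
  haveI : S₁.Additive := ModSite.sectOn_additive X.sheaf U₁
  let S₂ : X.Modules ⥤ X.Modules := ModSite.sectOn X.sheaf U₂
  haveI : S₂.Additive := ModSite.sectOn_additive X.sheaf U₂
  have hle : ∀ (U' : X.Opens), U ≤ U' → ∀ M : X.Modules, (ModSite.restr X.sheaf U).map
      ((ModSite.sectOnι X.sheaf U').app M) = 0 := fun U' hU' M => by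
    refine restr_map_eq_zero U _ fun V hV => ?_
    refine app_eq_zero_of_restr U' _ ?_ V (hV.trans hU')
    have := GrothSS.restr_comp_ι (O := X.sheaf) (U := U') (𝟙 ((ModSite.sectOn X.sheaf U').obj M))
    rwa [Category.id_comp] at this
  let j₁ : S₁ ⟶ S :=
    { app := fun M => GrothSS.sectLift ((ModSite.sectOnι X.sheaf U₁).app M) (hle U₁ h₁ M)
      naturality := fun {M N} f => by
        rw [← cancel_mono ((ModSite.sectOnι X.sheaf U).app N)]
        refine (Category.assoc _ _ _).trans ?_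
        refine (congrArg (_ ≫ ·) (GrothSS.sectLift_ι _ _)).trans ?_
        refine Eq.trans ?_ (Category.assoc _ _ _).symm
        refine Eq.trans ?_ (congrArg (_ ≫ ·) ((ModSite.sectOnι X.sheaf U).naturality f).symm)
        refine Eq.trans ?_ (Category.assoc _ _ _)
        refine Eq.trans ?_ (congrArg (· ≫ f) (GrothSS.sectLift_ι _ _).symm)
        exact (ModSite.sectOnι X.sheaf U₁).naturality f }
  let j₂ : S₂ ⟶ S :=
    { app := fun M => GrothSS.sectLift ((ModSite.sectOnι X.sheaf U₂).app M) (hle U₂ h₂ M)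
      naturality := fun {M N} f => by
        rw [← cancel_mono ((ModSite.sectOnι X.sheaf U).app N)]
        refine (Category.assoc _ _ _).trans ?_
        refine (congrArg (_ ≫ ·) (GrothSS.sectLift_ι _ _)).trans ?_
        refine Eq.trans ?_ (Category.assoc _ _ _).symm
        refine Eq.trans ?_ (congrArg (_ ≫ ·) ((ModSite.sectOnι X.sheaf U).naturality f).symm)
        refine Eq.trans ?_ (Category.assoc _ _ _)
        refine Eq.trans ?_ (congrArg (· ≫ f) (GrothSS.sectLift_ι _ _).symm)
        exact (ModSite.sectOnι X.sheaf U₂).naturality f }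
  have hiso : ∀ (U' U'' : X.Opens) (hU : U ≤ U') (_ : U' ⊓ U'' ≤ U) (M : X.Modules),
      IsIso ((ModSite.restr X.sheaf U'').map (GrothSS.sectLift ((ModSite.sectOnι X.sheaf U').app M) (hle U' hU M))) := by
    intro U' U'' hU hUU M
    let l := GrothSS.sectLift ((ModSite.sectOnι X.sheaf U').app M) (hle U' hU M)
    have hl : ∀ (W : X.Opens) (t : ModSite.sect ((ModSite.sectOn X.sheaf U').obj M) W),
        ((ModSite.sectOnι X.sheaf U).app M).val.app (op W) (l.val.app (op W) t) =
          ((ModSite.sectOnι X.sheaf U').app M).val.app (op W) t := fun W t =>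
      congrArg (fun φ : (ModSite.sectOn X.sheaf U').obj M ⟶ (show ModSite.Mod X.sheaf from M) => (φ.val.app (op W)).hom t)
        (GrothSS.sectLift_ι _ _)
    have hinj : ∀ (U₀ W : X.Opens), Function.Injective (((ModSite.sectOnι X.sheaf U₀).app M).val.app (op W)) := fun U₀ W => by
      haveI : Mono ((ModSite.sectOnι X.sheaf U₀).app M).val := (SheafOfModules.forget _).map_mono _
      exact PresheafOfModules.injective_of_mono _ _
    have hb : ∀ Y : (Over U'')ᵒᵖ, Function.Bijective (l.val.app (op Y.unop.left)) := fun Y => by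
      refine ⟨fun a b e => hinj U' _ ((hl _ a).symm.trans ((congrArg _ e).trans (hl _ b))), fun y => ?_⟩
      obtain ⟨m, hm⟩ := (GrothSS.mem_range_sectOnι_iff X.sheaf U' M Y.unop.left
          (((ModSite.sectOnι X.sheaf U).app M).val.app (op Y.unop.left) y)).2 fun W a b =>
        (GrothSS.mem_range_sectOnι_iff X.sheaf U M Y.unop.left _).1 ⟨y, rfl⟩ a
          (homOfLE ((le_inf (leOfHom b) (leOfHom (a ≫ Y.unop.hom))).trans hUU))
      exact ⟨m, hinj U _ ((hl _ m).trans hm)⟩
    haveI : IsIso ((SheafOfModules.forget (ModSite.ringSh (X.sheaf.over U''))).map ((ModSite.restr X.sheaf U'').map l)) := by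
      haveI : ∀ Y, IsIso (((ModSite.restr X.sheaf U'').map l).val.app Y) := fun Y =>
        (ConcreteCategory.isIso_iff_bijective _).2 (hb Y)
      exact (PresheafOfModules.isoMk (fun Y => asIso (((ModSite.restr X.sheaf U'').map l).val.app Y))
        fun {Y Y'} g => ((ModSite.restr X.sheaf U'').map l).val.naturality g).isIso_hom
    exact isIso_of_fully_faithful (SheafOfModules.forget (ModSite.ringSh (X.sheaf.over U''))) _
  have hnull : ∀ (U' : X.Opens) (M : X.Modules), IsZero ((ModSite.restr X.sheaf U').obj ((ModSite.sectOn X.sheaf U').obj M)) := by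
    intro U' M
    refine (IsZero.iff_id_eq_zero _).2 ?_
    have hφ : ∀ V : X.Opens, V ≤ U' → (Scheme.Modules.Hom.app (M := (ModSite.sectOn X.sheaf U').obj M)
        (N := (ModSite.sectOn X.sheaf U').obj M) (𝟙 _) V) = 0 := fun V hV => by
      ext s
      haveI : Mono (C := X.Modules) ((ModSite.sectOnι X.sheaf U').app M) :=
        GrothSS.mono_sectOnι (O := X.sheaf)
      refine QC.app_injective_of_mono (M := (ModSite.sectOn X.sheaf U').obj M) (N := M)
        ((ModSite.sectOnι X.sheaf U').app M) V ?_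
      have := GrothSS.restr_comp_ι (O := X.sheaf) (U := U') (𝟙 ((ModSite.sectOn X.sheaf U').obj M))
      rw [Category.id_comp] at this
      exact (ConcreteCategory.congr_hom (app_eq_zero_of_restr U' _ this V hV) _).trans (map_zero _).symm
    rw [← CategoryTheory.Functor.map_id]
    exact restr_map_eq_zero U' (A := (ModSite.sectOn X.sheaf U').obj M) (B := (ModSite.sectOn X.sheaf U').obj M) _ hφ
  let Φ : ∀ M : X.Modules, (S₁.obj M ⊞ S₂.obj M : X.Modules) ⟶ S.obj M := fun M =>
    biprod.desc (j₁.app M) (j₂.app M)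
  haveI hΦ : ∀ M, IsIso (Φ M) := fun M => by
    refine HomColim.isIso_of_coversTop (O := X.sheaf) (Φ M) (ι := ULift.{u} Bool) (fun b => cond b.down U₁ U₂) ?_ ?_
    · intro W
      rw [Opens.mem_grothendieckTopology]
      intro x hx
      rcases (show x ∈ (U₁ ⊔ U₂ : X.Opens) from htop ▸ trivial) with hx' | hx'
      · exact ⟨W ⊓ U₁, homOfLE inf_le_left, (Sieve.mem_ofObjects_iff ..).2 ⟨⟨true⟩, ⟨homOfLE inf_le_right⟩⟩, hx, hx'⟩
      · exact ⟨W ⊓ U₂, homOfLE inf_le_left, (Sieve.mem_ofObjects_iff ..).2 ⟨⟨false⟩, ⟨homOfLE inf_le_right⟩⟩, hx, hx'⟩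
    · rintro ⟨b⟩
      cases b
      · let R := ModSite.restr X.sheaf U₂
        haveI : PreservesLimitsOfSize.{0, 0} R := (ModSite.extZeroAdj X.sheaf U₂).rightAdjoint_preservesLimits
        haveI := preservesBinaryBiproducts_of_preservesBinaryProducts R
        haveI := Functor.additive_of_preservesBinaryBiproducts R
        haveI : IsIso (R.map (j₁.app M)) := hiso U₁ U₂ h₁ h M
        let inl : S₁.obj M ⟶ S₁.obj M ⊞ S₂.obj M := biprod.inl
        haveI : IsIso (R.map inl) := ⟨R.map (biprod.fst : S₁.obj M ⊞ S₂.obj M ⟶ S₁.obj M), by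
          rw [← Functor.map_comp]; exact (congrArg R.map biprod.inl_fst).trans (R.map_id _), by
          have e := congrArg R.map (biprod.total (X := S₁.obj M) (Y := S₂.obj M))
          rw [R.map_add, R.map_comp, R.map_comp, R.map_id, (hnull U₂ M).eq_of_src (R.map biprod.inr) 0, comp_zero,
            add_zero] at e
          exact e⟩
        have e : R.map inl ≫ R.map (Φ M) = R.map (j₁.app M) := by
          rw [← Functor.map_comp]; exact congrArg R.map (biprod.inl_desc _ _)
        exact IsIso.of_isIso_fac_left e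
      · let R := ModSite.restr X.sheaf U₁
        haveI : PreservesLimitsOfSize.{0, 0} R := (ModSite.extZeroAdj X.sheaf U₁).rightAdjoint_preservesLimits
        haveI := preservesBinaryBiproducts_of_preservesBinaryProducts R
        haveI := Functor.additive_of_preservesBinaryBiproducts R
        haveI : IsIso (R.map (j₂.app M)) := hiso U₂ U₁ h₂ (inf_comm U₂ U₁ ▸ h) M
        let inr : S₂.obj M ⟶ S₁.obj M ⊞ S₂.obj M := biprod.inr
        haveI : IsIso (R.map inr) := ⟨R.map (biprod.snd : S₁.obj M ⊞ S₂.obj M ⟶ S₂.obj M), by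
          rw [← Functor.map_comp]; exact (congrArg R.map biprod.inr_snd).trans (R.map_id _), by
          have e := congrArg R.map (biprod.total (X := S₁.obj M) (Y := S₂.obj M))
          rw [R.map_add, R.map_comp, R.map_comp, R.map_id, (hnull U₁ M).eq_of_src (R.map biprod.inl) 0, comp_zero,
            zero_add] at e
          exact e⟩
        have e : R.map inr ≫ R.map (Φ M) = R.map (j₂.app M) := by
          rw [← Functor.map_comp]; exact congrArg R.map (biprod.inr_desc _ _)
        exact IsIso.of_isIso_fac_left e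
  have hn₁ : ∀ {M N : X.Modules} (f : M ⟶ N), Φ M ≫ S.map f = biprod.map (S₁.map f) (S₂.map f) ≫ Φ N := fun f => by
    apply biprod.hom_ext' <;> simp [Φ]
  let p₁ : S ⟶ S₁ :=
    { app := fun M => inv (Φ M) ≫ biprod.fst
      naturality := fun {M N} f => by
        rw [← cancel_epi (Φ M), reassoc_of% (hn₁ f)]
        simp }
  let p₂ : S ⟶ S₂ :=
    { app := fun M => inv (Φ M) ≫ biprod.snd
      naturality := fun {M N} f => by
        rw [← cancel_epi (Φ M), reassoc_of% (hn₁ f)]
        simp }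
  let K := ((DCoh.sheafHom F).mapHomologicalComplex (ComplexShape.up ℕ)).obj (injectiveResolution G).cocomplex
  let a₁ := (NatTrans.mapHomologicalComplex p₁ (ComplexShape.up ℕ)).app K
  let a₂ := (NatTrans.mapHomologicalComplex p₂ (ComplexShape.up ℕ)).app K
  let b₁ := (NatTrans.mapHomologicalComplex j₁ (ComplexShape.up ℕ)).app K
  let b₂ := (NatTrans.mapHomologicalComplex j₂ (ComplexShape.up ℕ)).app K
  have e : a₁ ≫ b₁ + a₂ ≫ b₂ = 𝟙 _ := by
    refine HomologicalComplex.hom_ext _ _ fun m => ?_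
    show p₁.app (K.X m) ≫ j₁.app (K.X m) + p₂.app (K.X m) ≫ j₂.app (K.X m) = 𝟙 (S.obj (K.X m))
    rw [← cancel_epi (Φ (K.X m))]
    apply biprod.hom_ext' <;> simp [Φ, p₁, p₂]
  refine (IsZero.iff_id_eq_zero _).2 ?_
  rw [← HomologicalComplex.homologyMap_id, ← e, HomologicalComplex.homologyMap_add, HomologicalComplex.homologyMap_comp,
    HomologicalComplex.homologyMap_comp, z₁.eq_of_tgt (HomologicalComplex.homologyMap a₁ i) 0,
    z₂.eq_of_tgt (HomologicalComplex.homologyMap a₂ i) 0, zero_comp, zero_comp, add_zero]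

theorem isCoh_extZSh_structureModule [IsLocallyNoetherian X]
    (hreg : ∀ x : X, IsRegularLocalRing (X.presheaf.stalk x)) (U : X.Opens)
    (F : X.Modules) [ModSite.HasSheafHom (O := X.sheaf) F] (hF : Coh.IsCoh F) (n : ℕ)
    (hn : ∀ x ∈ closure (CohB1.support F ∩ (U : Set X)), x ∉ (U : Set X) →
      ringKrullDim (X.presheaf.stalk x) ≠ (n : WithBot ℕ∞)) :
    Coh.IsCoh ((ModSite.extZSh (O := X.sheaf) U F n).obj (Coh.structureModule X)) := by
  refine isCoh_extZSh_of_vanish U F hF _ RefStalk.isCoh_structureModule n fun F'' hF'' hsub => ?_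
  let P : Set X := closure (CohB1.support F ∩ (U : Set X)) \ (U : Set X)
  obtain ⟨U₁, U₂, htop, hinf, hbig, hsmall⟩ := exists_split hreg (P := P) (isClosed_closure.sdiff U.2) n
    (fun x hx => hn x hx.1 hx.2)
  let U' : X.Opens := U₁ ⊓ U₂
  have hmem : ∀ x, x ∈ U' ↔ x ∉ P := fun x => Set.ext_iff.1 hinf x
  obtain ⟨e⟩ := nonempty_extZSh_congr U (U' := U') (fun x hx => (hmem x).2 fun h => h.2 hx) F''
    (fun x hx hx' => not_not.1 fun h => (hmem x).1 hx' ⟨hsub hx, h⟩) (Coh.structureModule X) n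
  refine IsZero.of_iso ?_ e
  obtain ⟨c⟩ := nonempty_suppCx_iso U' F'' (Coh.structureModule X) n
  refine IsZero.of_iso ?_ c
  obtain ⟨c₁⟩ := nonempty_suppCx_iso U₁ F'' (Coh.structureModule X) n
  obtain ⟨c₂⟩ := nonempty_suppCx_iso U₂ F'' (Coh.structureModule X) n
  refine isZero_suppCx_of_split U' U₁ U₂ inf_le_left inf_le_right le_rfl htop F'' _ n
    (IsZero.of_iso ?_ c₁.symm) (IsZero.of_iso ?_ c₂.symm)
  · refine isZero_extZSh_of_depth U₁ F'' _ RefStalk.isCoh_structureModule (n + 1) (fun x hx => ?_) n n.lt_succ_self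
    haveI := hreg x
    have hd := (IsRegularLocalRing.spanFinrank_maximalIdeal (R := X.presheaf.stalk x)).symm
    refine ExtShX.le_depth_regular (ResDesc.isFinLocFree_structureModule X) x hd (n + 1) ?_
    have := hbig x hx
    rw [hd, Nat.cast_lt] at this
    exact this
  · exact isZero_extZSh U₂ hreg F'' hF'' RefStalk.isCoh_structureModule.1 n fun x _ hx => hsmall x hx

end Groth.Agent.ExtZ
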