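import Groth.Prelude.Def_ModSite2
import Groth.Agent.ExtShX.CohLocal
import Groth.Agent.CohProperPush.SuppRed

/-!
Local Ext with supports of a module supported in the closed set is local Ext.
-/

set_option autoImplicit false
set_option linter.style.haveILetI false
set_option backward.isDefEq.respectTransparency false
set_option backward.isDefEq.respectTransparency.types false

universe u

open CategoryTheory CategoryTheory.Limits AlgebraicGeometry TopologicalSpace Opposite

noncomputable section

namespace Groth.Agent.ExtZ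

variable {X : Scheme.{u}} (U : X.Opens) (F : X.Modules)
  (hsupp : ∀ x ∈ CohB1.support F, x ∉ (U : Set X))

lemma isZero_sheafHom (Z : X.Modules) (hZ : IsZero Z) (T : X.Modules) : IsZero ((DCoh.sheafHom Z).obj T) := by
  refine (IsZero.iff_id_eq_zero _).2 (((DCoh.sheafHomAdj Z).homEquiv _ _).symm.injective ?_)
  have h : IsZero (((DCoh.tensorBi (X := X)).obj Z).obj ((DCoh.sheafHom Z).obj T)) := by
    have e : IsZero ((DCoh.tensorBi (X := X)).obj Z) :=
      (DCoh.tensorBi (X := X)).map_isZero hZ
    exact Functor.isZero_iff _ |>.1 e _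
  exact h.eq_of_src _ _

include hsupp in
lemma subsingleton_sheafHom (N : X.Modules) (V : X.Opens) (hV : V ≤ U) :
    Subsingleton Γ((DCoh.sheafHom F).obj N, V) := by
  obtain ⟨e⟩ := ExtShX.nonempty_homRestrict V F
  have hFV : IsZero ((Scheme.Modules.pullback V.ι).obj F) :=
    (CohProperPush.isZero_restrict_of_support (M := F) V.ι fun y hy => hsupp _ hy (hV y.2)).of_iso
      ((Scheme.Modules.restrictFunctorIsoPullback V.ι).app F).symm
  have h : IsZero (((DCoh.sheafHom F).obj N).restrict V.ι) :=
    ((isZero_sheafHom _ hFV _).of_iso (e.app N)).of_iso ((Scheme.Modules.restrictFunctorIsoPullback V.ι).app _)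
  have h1 : ∀ s : Γ(((DCoh.sheafHom F).obj N).restrict V.ι, ⊤), s = 0 := fun s =>
    congrArg (fun f => f.app ⊤ s) ((IsZero.iff_id_eq_zero _).1 h)
  have e2 : V.ι ''ᵁ ⊤ = V := V.ι_image_top
  have : Subsingleton Γ((DCoh.sheafHom F).obj N, V.ι ''ᵁ ⊤) := ⟨fun a b => (h1 a).trans (h1 b).symm⟩
  rwa [e2] at this

variable [ModSite.HasSheafHom (O := X.sheaf) F]

include hsupp in
lemma isZero_restr (N : X.Modules) :
    IsZero ((ModSite.restr X.sheaf U).obj ((ModSite.sheafHom (O := X.sheaf) F).obj N)) := by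
  let e : @Iso (X.Modules ⥤ X.Modules) _ (ModSite.sheafHom (O := X.sheaf) F) (DCoh.sheafHom F) :=
    (ModSite.sheafHomAdj (O := X.sheaf) F).rightAdjointUniq
      ((DCoh.sheafHomAdj F).ofNatIsoLeft (W7Flasque.tensorIso F).symm)
  refine IsZero.of_iso ?_ ((ModSite.restr X.sheaf U).mapIso (e.app N))
  refine (IsZero.iff_id_eq_zero _).2 ?_
  apply SheafOfModules.hom_ext
  apply PresheafOfModules.hom_ext
  intro W
  apply ModuleCat.hom_ext
  apply LinearMap.ext
  intro s
  exact @Subsingleton.elim _ (subsingleton_sheafHom U F hsupp N W.unop.left (leOfHom W.unop.hom)) _ _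

include hsupp in
theorem nonempty_sheafHomSectOn :
    Nonempty (ModSite.sheafHom (O := X.sheaf) F ⋙ ModSite.sectOn X.sheaf U ≅ ModSite.sheafHom (O := X.sheaf) F) := by
  let H := ModSite.sheafHom (O := X.sheaf) F
  haveI : ∀ N, IsIso ((ModSite.sectOnι X.sheaf U).app (H.obj N)) := fun N => by
    have h0 : (ModSite.restrPushOverAdj X.sheaf U).unit.app (H.obj N) = 0 := by
      apply ((ModSite.restrPushOverAdj X.sheaf U).homEquiv _ _).symm.injective
      exact (isZero_restr U F hsupp N).eq_of_src _ _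
    show IsIso (kernel.ι _)
    rw [← kernelIsoOfEq_hom_comp_ι (h := h0)]
    infer_instance
  exact ⟨NatIso.ofComponents (fun N => asIso ((ModSite.sectOnι X.sheaf U).app (H.obj N)))
    fun {N N'} f => (ModSite.sectOnι X.sheaf U).naturality (H.map f)⟩

variable [HasInjectiveResolutions (ModSite.Mod X.sheaf)]

include hsupp in
/-- `ℰxt_Y = ℰxt` for modules supported in `Y`. -/
theorem nonempty_extZShIso (q : ℕ) (N : X.Modules) :
    Nonempty ((ModSite.extZSh (O := X.sheaf) U F q).obj N ≅ (ExtShX.R F q).obj N) := by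
  obtain ⟨e⟩ := nonempty_sheafHomSectOn U F hsupp
  obtain ⟨w⟩ := ExtShX.nonempty_extShIso F q N
  haveI : (ModSite.sheafHom (O := X.sheaf) F).Additive := ModSite.sheafHom_additive (O := X.sheaf) F
  exact ⟨(GrothSS.rightDerivedMapIso e q).app N ≪≫ w⟩

end Groth.Agent.ExtZ
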