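import Groth.Agent.ExtZ.QCoh
import Groth.Agent.LCZQC.LocClosed
import Groth.Agent.LCZ.Scheme
import Groth.Agent.LocH.Grothendieck
import Groth.Agent.ExtShX.DepthCrit
import Groth.Agent.ExtVanReg.Basic

/-!
Local Ext with supports vanishes above the dimension on a regular scheme.
-/

set_option autoImplicit false
set_option linter.style.haveILetI false
set_option linter.unusedSectionVars false
set_option backward.isDefEq.respectTransparency false
set_option backward.isDefEq.respectTransparency.types false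
set_option maxHeartbeats 1000000

universe v u v' u'

open CategoryTheory CategoryTheory.Limits AlgebraicGeometry TopologicalSpace Opposite
open scoped ZeroObject

noncomputable section

namespace Groth.Agent.HomODer

variable {A : Type u} [Category.{v} A] [Abelian A] [HasInjectiveResolutions A] {D : Type u'} [Category.{v'} D]
  [Abelian D] (T : A ⥤ D) [T.Additive] [PreservesFiniteLimits T] (I : CochainComplex A ℤ) [∀ i, Injective (I.X i)]

/-- Vanishing along one total degree. -/
theorem isZero_homology_map (a : ℤ) [I.IsStrictlyGE a] (j : ℤ)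
    (hH : ∀ (n : ℤ) (q : ℕ), n + q = j → IsZero ((T.rightDerived q).obj (I.homology n))) :
    IsZero (((T.mapHomologicalComplex (ComplexShape.up ℤ)).obj I).homology j) := by
  have hbd : ∀ (k : ℕ) (n : ℤ), n ≤ a + k → ∀ q : ℕ, n + q + 1 = j →
      IsZero ((T.rightDerived (q + 1)).obj (Bd I n)) := by
    intro k
    induction k with
    | zero =>
      intro n hn q _
      haveI := epi_dB I (n - 1) n (by omega)
      refine (T.rightDerived (q + 1)).map_isZero ?_
      exact IsZero.of_epi (dB I (n - 1) n) (I.isZero_of_isStrictlyGE a (n - 1) (by omega))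
    | succ k ih =>
      intro n hn q hq
      obtain ⟨e⟩ := nonempty_iso_shift T I (n - 1) n (by omega) q
      refine IsZero.of_iso ?_ e
      refine (RDerLib.exact₂ T (RDerLib.res (seqH_shortExact I (n - 1))) (q + 1 + 1)).isZero_X₂
        ((ih (n - 1) (by omega) (q + 1) (by omega)).eq_of_src _ _)
        ((hH (n - 1) (q + 1 + 1) (by omega)).eq_of_tgt _ _)
  obtain ⟨i, hij⟩ : ∃ i, i + 1 = j := ⟨j - 1, by omega⟩
  obtain ⟨eH⟩ := nonempty_homologyIso T I i j hij
  refine IsZero.of_iso ?_ eH.symm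
  let R₀ := T.rightDerived 0
  let rX := RDerLib.res (seqX_shortExact I i j hij)
  have h1 : IsZero ((T.rightDerived 1).obj (I.cycles i)) :=
    (RDerLib.exact₂ T (RDerLib.res (seqH_shortExact I i)) 1).isZero_X₂
      ((hbd (i - a).toNat i (by omega) 0 (by omega)).eq_of_src _ _)
      ((hH i 1 (by omega)).eq_of_tgt _ _)
  haveI : Epi (R₀.map (dB I i j)) :=
    (RDerLib.exact₃ T rX 0 1 rfl).epi_f (h1.eq_of_tgt _ _)
  haveI : Epi (R₀.map (seqH I j).f) :=
    (RDerLib.exact₂ T (RDerLib.res (seqH_shortExact I j)) 0).epi_f ((hH j 0 (by omega)).eq_of_tgt _ _)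
  haveI : Epi (R₀.map (I.toCycles i j)) := by
    rw [← show R₀.map (dB I i j) ≫ R₀.map (seqH I j).f = R₀.map (I.toCycles i j) from by
      rw [← Functor.map_comp]; exact congrArg R₀.map (kernel.lift_ι _ _ _)]
    infer_instance
  exact isZero_cokernel_of_epi _

end Groth.Agent.HomODer

namespace Groth.Agent.ExtZ

theorem supportDim_lt {B N : Type u} [CommRing B] [AddCommGroup N] [Module B N] {n p i : ℕ} (hi : n + p = i)
    (hd : ringKrullDim B < (i : WithBot ℕ∞))
    (h : ∀ P : PrimeSpectrum B, P ∈ Module.support B N → (n : ℕ∞) ≤ P.asIdeal.height) :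
    Module.supportDim B N < (p : WithBot ℕ∞) := by
  have key : ∀ l : LTSeries (Module.support B N), l.length + n < i := fun l => by
    obtain ⟨l₀, hl₀, hlen⟩ := Order.exists_series_of_le_height (l.head : PrimeSpectrum B)
      (n := n) ((h _ l.head.2).trans_eq (PrimeSpectrum.height_eq_orderHeight _))
    have := (Order.LTSeries.length_le_krullDim
      (RelSeries.smash l₀ (l.map Subtype.val fun _ _ hxy => hxy) (hl₀.trans rfl))).trans_lt hd
    simp only [RelSeries.smash_length, LTSeries.map_length, hlen] at this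
    rw [Nat.cast_lt] at this
    omega
  rcases p with _ | p
  · haveI : IsEmpty (Module.support B N) := ⟨fun P => by
      have := key (RelSeries.singleton _ P)
      simp at this; omega⟩
    rw [Module.supportDim, Order.krullDim_eq_bot]
    exact WithBot.bot_lt_coe _
  · refine lt_of_le_of_lt (iSup_le fun l => ?_) (b := (p : WithBot ℕ∞)) (by exact_mod_cast Nat.lt_succ_self p)
    have := key l
    exact_mod_cast (show l.length ≤ p by omega)

variable {X : Scheme.{u}} [IsLocallyNoetherian X] (U : X.Opens)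

/-- Cohomology sheaves with supports above the dimension of the support. -/
theorem isZero_HZsh_of_dim [HasInjectiveResolutions (ModSite.Mod X.sheaf)] (M : X.Modules) (hM : Coh.IsQCoh M)
    (p : ℕ) (h : ∀ (V : X.Opens) (hV : IsAffineOpen V) (m : PrimeSpectrum Γ(X, V)), m.asIdeal.IsMaximal →
      hV.fromSpec m ∉ U → Module.supportDim (Localization.AtPrime m.asIdeal)
        (LocalizedModule m.asIdeal.primeCompl Γ(M, V)) < (p : WithBot ℕ∞)) :
    IsZero ((ModSite.HZsh X.sheaf U p).obj M) := by
  haveI : HasInjectiveResolutions X.Modules := ‹HasInjectiveResolutions (ModSite.Mod X.sheaf)›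
  haveI : (show X.Modules ⥤ X.Modules from ModSite.sectOn X.sheaf U).Additive := ModSite.sectOn_additive X.sheaf U
  let T := SheafOfModules.toSheaf X.ringCatSheaf
  haveI : PreservesFiniteColimits T := CohQC.toSheaf_preservesFiniteColimits X.ringCatSheaf
  haveI : T.PreservesHomology := Functor.preservesHomologyOfExact T
  haveI := LCZQC.preservesFiniteLimits_sectSuppF (X := X.carrier) U
  refine IsZero.of_iso ?_ ((GrothSS.rightDerivedMapIso (gammaNatIso U) p).app M).symm
  refine CohQC.isZero_of_isZero_toAb ?_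
  obtain ⟨e⟩ := GrothSS.nonempty_rightDerived_comp_acyclic T (LocCohZ.sectSuppF (X := X.carrier) U)
    (fun I hI q hq => by
      haveI := hI
      haveI : TopCat.Sheaf.IsFlasque (T.obj I) := RPushQC.isFlasque_toAb (RPushQC.isFlasque_of_injective I)
      exact LCZ.isZero_HZsh_of_isFlasque (X := X.carrier) (F := T.obj I) U hq) p M
  refine IsZero.of_iso ?_ (((ExtShX.postCompIso (DCoh.gammaZ U.ι) T p).app M).symm ≪≫
    (GrothSS.rightDerivedMapIso (LCZQC.gammaToAbIso U.ι U U.opensRange_ι) p).app M ≪≫ e)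
  refine LCZ.isZero_HZsh_of_subsingleton (X := X.carrier) U fun V x hx => ?_
  obtain ⟨_, ⟨W : X.Opens, hW : IsAffineOpen W, rfl⟩, hxW, hWV⟩ :=
    X.isBasis_affineOpens.exists_subset_of_mem_open (show x ∈ (V : Set X) from hx) V.isOpen
  have : M.IsQuasicoherent := hM
  have : IsNoetherianRing Γ(X, W) := IsLocallyNoetherian.component_noetherian ⟨W, hW⟩
  obtain ⟨J, hJ, hJ'⟩ := LCZ.exists_ideal_subsingleton_HZ_iff M hW U
  refine ⟨W, hxW, hWV, (hJ' p).2 (LocH.subsingleton_of_localizations Γ(M, W) J p fun m hm' => ?_)⟩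
  by_cases hm : J ≤ m
  · exact LocH.subsingleton_of_supportDim_lt _ p _ (h W hW ⟨m, inferInstance⟩ hm' ((hJ ⟨m, inferInstance⟩).1 hm))
  · obtain ⟨j, hj, hjm⟩ := SetLike.not_le_iff_exists.1 hm
    have htop : J.map (algebraMap Γ(X, W) (Localization.AtPrime m)) = ⊤ :=
      Ideal.eq_top_of_isUnit_mem _ (Ideal.mem_map_of_mem _ hj)
        (IsLocalization.map_units (Localization.AtPrime m) (⟨j, hjm⟩ : m.primeCompl))
    rw [htop]
    refine subsingleton_of_forall_eq 0 fun y => ?_
    obtain ⟨k, hk⟩ := LocH.isPowerTorsion (⊤ : Ideal (Localization.AtPrime m)) p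
      (ModuleCat.of _ (LocalizedModule m.primeCompl Γ(M, W))) y
    exact (one_smul (Localization.AtPrime m) y).symm.trans (hk 1 (by rw [Ideal.top_pow]; exact Submodule.mem_top))

/-- `ℰxt_Z` through a complex of injectives. -/
theorem exists_model (F : X.Modules) [ModSite.HasSheafHom (O := X.sheaf) F]
    [HasInjectiveResolutions (ModSite.Mod X.sheaf)] (G : X.Modules) (i : ℕ) :
    ∃ (L : CochainComplex (ModSite.Mod X.sheaf) ℤ) (_ : L.IsStrictlyGE 0) (_ : ∀ n, Injective (L.X n)),
      (∀ m : ℕ, Nonempty (L.homology (m : ℤ) ≅ (ExtShX.R F m).obj G)) ∧ (∀ n : ℤ, n < 0 → IsZero (L.homology n)) ∧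
      Nonempty ((ModSite.extZSh (O := X.sheaf) U F i).obj G ≅
        (((ModSite.sectOn X.sheaf U).mapHomologicalComplex (ComplexShape.up ℤ)).obj L).homology (i : ℤ)) := by
  letI := HasDerivedCategory.standard (ModSite.Mod X.sheaf)
  let A := ModSite.Mod X.sheaf
  let H := ModSite.sheafHom (O := X.sheaf) F
  let S := ModSite.sectOn X.sheaf U
  haveI : EnoughInjectives A := ⟨fun Y => ⟨_, (injectiveResolution Y).injective 0,
    (injectiveResolution Y).ι.f 0, inferInstance⟩⟩
  let R := injectiveResolution (C := A) G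
  let K := (H.mapHomologicalComplex (ComplexShape.up ℤ)).obj R.cochainComplex
  haveI : CochainComplex.IsStrictlyGE K 0 :=
    inferInstanceAs (CochainComplex.IsStrictlyGE ((H.mapHomologicalComplex (ComplexShape.up ℤ)).obj R.cochainComplex) 0)
  obtain ⟨L, j, hj, hL, hge⟩ := CochainComplex.Plus.modelCategoryQuillen.exists_quasiIso_injective K 0
  haveI := hge
  haveI := hL
  haveI hq' := GrothSS.quasiIso_map_of_acyclic S j 0 (fun m q hq => by
    obtain ⟨q, rfl⟩ : ∃ r, q = r + 1 := ⟨q - 1, by omega⟩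
    haveI : Injective (R.cochainComplex.X m) := inferInstance
    exact GrothSS.isZero_HZsh_of_totallyAcyclic X.sheaf U q _
      (ModSiteHom.isTotallyAcyclic_sheafHom_injective F (R.cochainComplex.X m))) hL
  haveI : ∀ n, QuasiIsoAt j n := fun n => hj.quasiIsoAt n
  haveI : QuasiIsoAt ((S.mapHomologicalComplex (ComplexShape.up ℤ)).map j) (i : ℤ) := hq'.quasiIsoAt _
  obtain ⟨e⟩ := GrothSS.nonempty_homology_map_resolution (H ⋙ S) R i
  refine ⟨L, hge, hL, fun m => ?_, fun n hn => ?_,
    ⟨e.symm ≪≫ isoOfQuasiIsoAt ((S.mapHomologicalComplex (ComplexShape.up ℤ)).map j) (i : ℤ)⟩⟩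
  · obtain ⟨e⟩ := GrothSS.nonempty_homology_map_resolution H R m
    obtain ⟨w⟩ := ExtShX.nonempty_extShIso F m G
    exact ⟨(isoOfQuasiIsoAt j (m : ℤ)).symm ≪≫ e ≪≫ w⟩
  · exact (ShortComplex.isZero_homology_of_isZero_X₂ _
      (CochainComplex.isZero_of_isStrictlyGE K 0 n hn)).of_iso (isoOfQuasiIsoAt j n).symm

variable (hreg : ∀ x : X, IsRegularLocalRing (X.presheaf.stalk x))

include hreg in
theorem height_support (F G : X.Modules) (hF : Coh.IsCoh F) (n : ℕ) {V : X.Opens} (hV : IsAffineOpen V)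
    (hE : Coh.IsQCoh ((ExtShX.R F n).obj G)) (r : PrimeSpectrum Γ(X, V))
    (hr : r ∈ Module.support Γ(X, V) Γ((ExtShX.R F n).obj G, V)) :
    (n : ℕ∞) ≤ r.asIdeal.height ∧ hV.fromSpec r ∈ CohB1.support F := by
  let x := hV.fromSpec r
  have hx : x ∈ V := hV.range_fromSpec.subset ⟨r, rfl⟩
  let E := (ExtShX.R F n).obj G
  letI := Module.compHom (E.presheaf.stalk x) (X.presheaf.germ V x hx).hom
  obtain ⟨g, hg⟩ := LocFree.exists_stalkMap hV hE hx
  have hprime : hV.primeIdealOf ⟨x, hx⟩ = r :=
    hV.fromSpec.isOpenEmbedding.injective (hV.fromSpec_primeIdealOf ⟨x, hx⟩)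
  haveI := hg
  rw [← hprime, Module.mem_support_iff] at hr
  haveI := hr
  haveI : Nontrivial (E.presheaf.stalk x) :=
    (IsLocalizedModule.iso (hV.primeIdealOf ⟨x, hx⟩).asIdeal.primeCompl g).symm.toEquiv.nontrivial
  obtain ⟨e⟩ := ExtShX.nonempty_stalk_R F hF x n G
  have hne : ¬ Subsingleton (Abelian.Ext ((DerSch.stalkFunctor X x).obj F) ((DerSch.stalkFunctor X x).obj G) n) := fun h =>
    not_subsingleton (E.presheaf.stalk x) (e.toLinearEquiv.toEquiv.subsingleton_congr.2 h)
  refine ⟨?_, fun hs => hne ?_⟩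
  · by_contra hlt
    refine hne ?_
    haveI := hreg x
    refine ExtVanReg.subsingleton_ext_of_dim_lt _ _ n ?_
    letI := TopCat.Presheaf.algebra_section_stalk X.presheaf (⟨x, hx⟩ : V)
    haveI := hV.isLocalization_stalk' r hx
    rw [IsLocalization.AtPrime.ringKrullDim_eq_height r.asIdeal (X.presheaf.stalk x)]
    exact_mod_cast not_le.1 hlt
  · haveI : Subsingleton (F.presheaf.stalk x) := hs
    have hz : IsZero ((DerSch.stalkFunctor X x).obj F) :=
      haveI : Subsingleton ((DerSch.stalkFunctor X x).obj F) := hs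
      ModuleCat.isZero_of_subsingleton _
    refine subsingleton_of_forall_eq 0 fun a => ?_
    rw [← Abelian.Ext.mk₀_id_comp a, hz.eq_of_src (𝟙 _) 0, Abelian.Ext.mk₀_zero, Abelian.Ext.zero_comp]

include hreg in
theorem isZero_extZSh (F : X.Modules) [ModSite.HasSheafHom (O := X.sheaf) F]
    [HasInjectiveResolutions (ModSite.Mod X.sheaf)] (hF : Coh.IsCoh F) {G : X.Modules} (hG : Coh.IsQCoh G) (i : ℕ)
    (hi : ∀ x ∈ CohB1.support F, x ∉ (U : Set X) → ringKrullDim (X.presheaf.stalk x) < (i : WithBot ℕ∞)) :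
    IsZero ((ModSite.extZSh (O := X.sheaf) U F i).obj G) := by
  obtain ⟨L, _, hL, hK, hzero, ⟨e⟩⟩ := exists_model U F G i
  refine IsZero.of_iso ?_ e
  refine HomODer.isZero_homology_map (ModSite.sectOn X.sheaf U) L 0 i fun n q hnq => ?_
  rcases lt_or_ge n 0 with hn | hn
  · exact ((ModSite.sectOn X.sheaf U).rightDerived q).map_isZero (hzero n hn)
  lift n to ℕ using hn
  obtain ⟨w⟩ := hK n
  refine IsZero.of_iso ?_ (((ModSite.sectOn X.sheaf U).rightDerived q).mapIso w)
  have hE := HomODer.isQCoh_R_loc F G hF hG n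
  refine isZero_HZsh_of_dim U _ hE q fun V hV m hm hmU => ?_
  let y := hV.fromSpec m
  have hy : y ∈ V := hV.range_fromSpec.subset ⟨m, rfl⟩
  haveI := hm
  by_cases hsub : Subsingleton (LocalizedModule m.asIdeal.primeCompl Γ((ExtShX.R F n).obj G, V))
  · rw [(Module.supportDim_eq_bot_iff_subsingleton _ _).2 hsub]
    exact WithBot.bot_lt_coe _
  have hms : m ∈ Module.support Γ(X, V) Γ((ExtShX.R F n).obj G, V) :=
    Module.mem_support_iff.2 (not_subsingleton_iff_nontrivial.1 hsub)
  refine supportDim_lt (n := n) (i := i) (by omega) ?_ fun P hP => ?_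
  · letI := TopCat.Presheaf.algebra_section_stalk X.presheaf (⟨y, hy⟩ : V)
    haveI := hV.isLocalization_stalk' m hy
    rw [IsLocalization.AtPrime.ringKrullDim_eq_height m.asIdeal (Localization.AtPrime m.asIdeal),
      ← IsLocalization.AtPrime.ringKrullDim_eq_height m.asIdeal (X.presheaf.stalk y)]
    exact hi y (height_support hreg F G hF n hV hE m hms).2 hmU
  · let r := PrimeSpectrum.comap (algebraMap Γ(X, V) (Localization.AtPrime m.asIdeal)) P
    rw [← IsLocalization.height_comap m.asIdeal.primeCompl]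
    refine (height_support hreg F G hF n hV hE r ?_).1
    obtain ⟨z, hz⟩ := Module.mem_support_iff'.1 hP
    induction z using LocalizedModule.induction_on with
    | h z s =>
      refine Module.mem_support_iff'.2 ⟨z, fun a ha h0 => hz (algebraMap _ _ a) ha ?_⟩
      rw [algebraMap_smul, LocalizedModule.smul'_mk, h0, LocalizedModule.zero_mk]

end Groth.Agent.ExtZ
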